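-- Team project CHO (S1082): shape of the block-monomial isometries and their action on the
-- root vectors of type D4 (helper35).
import Mathlib
import Cfsg.Agent.Lib.Helper99.CHO.Defs

set_option autoImplicit false
open scoped MatrixGroups
open Matrix

namespace Cfsg.Agent.Lib.Helper35.CHO
open Cfsg.Agent.Lib.Helper99.CHO

universe u

/-- index of `Fin 4 ⊕ Fin 4` at position `a` (inverse of `ix8`) -/
def ofPos8 (a : ℕ) : Fin 4 ⊕ Fin 4 :=
  if h : a < 4 then Sum.inl ⟨a, h⟩ else Sum.inr ⟨(a - 4) % 4, Nat.mod_lt _ (by norm_num)⟩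

/-- row position of the first nonzero entry of `N_r` -/
def xListD4 : List ℕ := [4, 4, 3, 4, 2, 1, 5, 3, 5, 2, 3, 6, 2, 2, 1, 1, 1, 1, 0, 0, 0, 0, 0, 0]
/-- column position of the first nonzero entry of `N_r` -/
def yListD4 : List ℕ := [1, 2, 0, 3, 0, 0, 2, 1, 3, 1, 2, 3, 7, 3, 2, 7, 3, 6, 1, 2, 7, 3, 6, 5]
/-- the action of the swap of `e4` and `f4` on the root indices -/
def sigListD4 : List ℕ :=
  [0, 1, 3, 2, 4, 5, 6, 8, 7, 9, 11, 10, 13, 12, 14, 16, 15, 17, 18, 19, 21, 20, 22, 23]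

/-- the swap of `e4` and `f4` -/
def piS : Fin 4 ⊕ Fin 4 → Fin 4 ⊕ Fin 4
  | Sum.inl i => if i = 3 then Sum.inr 3 else Sum.inl i
  | Sum.inr i => if i = 3 then Sum.inl 3 else Sum.inr i

theorem piS_piS : ∀ i, piS (piS i) = i := by decide

theorem sig_lt : ∀ r : Fin 24, sigListD4.getD r.val 0 < 24 := by decide

set_option maxRecDepth 100000 in
theorem tabA : ∀ r : Fin 24, ∀ i j : Fin 4 ⊕ Fin 4, tab3 nListD4 r.val (ix8 i) (ix8 j) ≠ 0 →
    (i = ofPos8 (xListD4.getD r.val 0) ∧ j = ofPos8 (yListD4.getD r.val 0)) ∨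
    (i = Sum.swap (ofPos8 (yListD4.getD r.val 0)) ∧
      j = Sum.swap (ofPos8 (xListD4.getD r.val 0))) := by
  decide

set_option maxRecDepth 100000 in
theorem tabB : ∀ r : Fin 24, ∀ i j : Fin 4 ⊕ Fin 4,
    tab3 nListD4 (sigListD4.getD r.val 0) (ix8 i) (ix8 j) =
      tab3 nListD4 r.val (ix8 (piS i)) (ix8 (piS j)) := by
  decide

section generic
variable {K : Type u} [Field K]

/-- a family of scalars `c` with `c i * c i' = 1` acts on `N_r` by a scalar -/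
theorem diag_rel (c : Fin 4 ⊕ Fin 4 → K) (hc : ∀ i, c i * c (Sum.swap i) = 1) (r : ℕ)
    (hr : r < 24) : ∃ χ : K, ∀ i j, c i * ND4 K r i j = χ * (ND4 K r i j * c j) := by
  refine ⟨c (ofPos8 (xListD4.getD r 0)) * c (Sum.swap (ofPos8 (yListD4.getD r 0))), ?_⟩
  intro i j
  by_cases h : tab3 nListD4 r (ix8 i) (ix8 j) = 0
  · simp [ND4, h]
  · rcases tabA ⟨r, hr⟩ i j h with ⟨rfl, rfl⟩ | ⟨rfl, rfl⟩
    · have h1 := hc (ofPos8 (yListD4.getD r 0))
      linear_combination (-(c (ofPos8 (xListD4.getD r 0)) *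
        ND4 K r (ofPos8 (xListD4.getD r 0)) (ofPos8 (yListD4.getD r 0)))) * h1
    · have h1 := hc (ofPos8 (xListD4.getD r 0))
      linear_combination (-(c (Sum.swap (ofPos8 (yListD4.getD r 0))) *
        ND4 K r (Sum.swap (ofPos8 (yListD4.getD r 0)))
          (Sum.swap (ofPos8 (xListD4.getD r 0))))) * h1

/-- conjugation of `1 + t N` by a monomial matrix -/
theorem mono_conj (π : Fin 4 ⊕ Fin 4 → Fin 4 ⊕ Fin 4) (hπ : ∀ i, π (π i) = i)
    (D N N' : Matrix (Fin 4 ⊕ Fin 4) (Fin 4 ⊕ Fin 4) K) (c : Fin 4 ⊕ Fin 4 → K) (χ t : K)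
    (hD : ∀ i j, D i j = if i = π j then c j else 0)
    (hN' : ∀ i j, N' i j = N (π i) (π j))
    (hχ : ∀ i j, c i * N i j = χ * (N i j * c j)) :
    D * (1 + t • N) = (1 + (χ * t) • N') * D := by
  have h1 : D * N = χ • (N' * D) := by
    ext i j
    simp only [Matrix.mul_apply, Matrix.smul_apply, smul_eq_mul, hD, hN']
    have e1 : ∀ k, (if i = π k then c k else 0) * N k j =
        if k = π i then c (π i) * N (π i) j else 0 := by
      intro k
      by_cases hk : k = π i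
      · subst hk
        simp [hπ]
      · have : i ≠ π k := fun h => hk (by rw [h, hπ])
        simp [hk, this]
    have e2 : ∀ k, N (π i) (π k) * (if k = π j then c j else 0) =
        if k = π j then N (π i) j * c j else 0 := by
      intro k
      by_cases hk : k = π j
      · subst hk
        simp [hπ]
      · simp [hk]
    simp only [e1, e2, Finset.sum_ite_eq', Finset.mem_univ, if_true]
    exact hχ _ _
  rw [mul_add, add_mul, mul_one, one_mul, Matrix.mul_smul, Matrix.smul_mul, h1, smul_smul,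
    mul_comm t χ]

/-- the coercion of `ED4` -/
theorem coe_ED4 (hU : PkgUnitD4.{u}) (r : Fin Cfsg.Lie.chevD4.nroots) (t : K) :
    ((ED4 K r t : GL (Fin 4 ⊕ Fin 4) K) : Matrix (Fin 4 ⊕ Fin 4) (Fin 4 ⊕ Fin 4) K) =
      ED4mat K r.val t := by
  have h : IsUnit (ED4mat K r.val t) := hU K r.val t r.isLt
  unfold ED4
  rw [dif_pos h]
  rfl

/-- the six relations between the entries of a block-monomial isometry -/
theorem dg_rel (d : GL (Fin 4 ⊕ Fin 4) K) (hd : d ∈ DgD4 K) :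
    (∀ i : Fin 4, i ≠ 3 → (d : Matrix (Fin 4 ⊕ Fin 4) (Fin 4 ⊕ Fin 4) K) (Sum.inl i) (Sum.inl i) *
      (d : Matrix (Fin 4 ⊕ Fin 4) (Fin 4 ⊕ Fin 4) K) (Sum.inr i) (Sum.inr i) = 1) ∧
    (d : Matrix (Fin 4 ⊕ Fin 4) (Fin 4 ⊕ Fin 4) K) (Sum.inl 3) (Sum.inl 3) *
      (d : Matrix (Fin 4 ⊕ Fin 4) (Fin 4 ⊕ Fin 4) K) (Sum.inr 3) (Sum.inl 3) = 0 ∧
    (d : Matrix (Fin 4 ⊕ Fin 4) (Fin 4 ⊕ Fin 4) K) (Sum.inl 3) (Sum.inr 3) *
      (d : Matrix (Fin 4 ⊕ Fin 4) (Fin 4 ⊕ Fin 4) K) (Sum.inr 3) (Sum.inr 3) = 0 ∧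
    (d : Matrix (Fin 4 ⊕ Fin 4) (Fin 4 ⊕ Fin 4) K) (Sum.inl 3) (Sum.inl 3) *
      (d : Matrix (Fin 4 ⊕ Fin 4) (Fin 4 ⊕ Fin 4) K) (Sum.inr 3) (Sum.inr 3) +
    (d : Matrix (Fin 4 ⊕ Fin 4) (Fin 4 ⊕ Fin 4) K) (Sum.inl 3) (Sum.inr 3) *
      (d : Matrix (Fin 4 ⊕ Fin 4) (Fin 4 ⊕ Fin 4) K) (Sum.inr 3) (Sum.inl 3) = 1 := by
  obtain ⟨hiso, hz⟩ := hd
  have hq : ∀ u : Fin 4 ⊕ Fin 4 → K,
      Cfsg.quadFormPlus 4 K ((d : Matrix (Fin 4 ⊕ Fin 4) (Fin 4 ⊕ Fin 4) K) *ᵥ u) =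
        Cfsg.quadFormPlus 4 K u := fun u => hiso u u
  have hq1 : ∀ a : Fin 4 ⊕ Fin 4,
      ∑ k : Fin 4, (d : Matrix (Fin 4 ⊕ Fin 4) (Fin 4 ⊕ Fin 4) K) (Sum.inl k) a *
        (d : Matrix (Fin 4 ⊕ Fin 4) (Fin 4 ⊕ Fin 4) K) (Sum.inr k) a =
      ∑ k : Fin 4, (Pi.single a (1 : K) : Fin 4 ⊕ Fin 4 → K) (Sum.inl k) *
        (Pi.single a (1 : K) : Fin 4 ⊕ Fin 4 → K) (Sum.inr k) := by
    intro a
    have h := hq (Pi.single a 1)
    simpa only [Cfsg.quadFormPlus, Matrix.mulVec_single_one, Matrix.col_apply] using h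
  have hq2 : ∀ a b : Fin 4 ⊕ Fin 4,
      ∑ k : Fin 4, ((d : Matrix (Fin 4 ⊕ Fin 4) (Fin 4 ⊕ Fin 4) K) (Sum.inl k) a +
          (d : Matrix (Fin 4 ⊕ Fin 4) (Fin 4 ⊕ Fin 4) K) (Sum.inl k) b) *
        ((d : Matrix (Fin 4 ⊕ Fin 4) (Fin 4 ⊕ Fin 4) K) (Sum.inr k) a +
          (d : Matrix (Fin 4 ⊕ Fin 4) (Fin 4 ⊕ Fin 4) K) (Sum.inr k) b) =
      ∑ k : Fin 4, ((Pi.single a (1 : K) : Fin 4 ⊕ Fin 4 → K) (Sum.inl k) +
          (Pi.single b (1 : K) : Fin 4 ⊕ Fin 4 → K) (Sum.inl k)) *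
        ((Pi.single a (1 : K) : Fin 4 ⊕ Fin 4 → K) (Sum.inr k) +
          (Pi.single b (1 : K) : Fin 4 ⊕ Fin 4 → K) (Sum.inr k)) := by
    intro a b
    have h := hq (Pi.single a 1 + Pi.single b 1)
    simpa only [Cfsg.quadFormPlus, Matrix.mulVec_add, Matrix.mulVec_single_one, Matrix.col_apply,
      Pi.add_apply] using h
  have hα := hq1 (Sum.inl 3)
  have hβ := hq1 (Sum.inr 3)
  have hαβ := hq2 (Sum.inl 3) (Sum.inr 3)
  simp (disch := decide) [Fin.sum_univ_four, hz, Pi.single_apply] at hα hβ hαβ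
  have hα' := mul_eq_zero.mpr hα
  have hβ' := mul_eq_zero.mpr hβ
  refine ⟨?_, hα', hβ', ?_⟩
  · intro i hi
    have h := hq2 (Sum.inl i) (Sum.inr i)
    fin_cases i
    · simp (disch := decide) [Fin.sum_univ_four, hz, Pi.single_apply] at h
      simpa using h
    · simp (disch := decide) [Fin.sum_univ_four, hz, Pi.single_apply] at h
      simpa using h
    · simp (disch := decide) [Fin.sum_univ_four, hz, Pi.single_apply] at h
      simpa using h
    · exact absurd rfl hi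
  · linear_combination hαβ - hα' - hβ'

/-- the shape of a block-monomial isometry: a monomial matrix for `id` or for the swap of
`e4` and `f4`, with scalars `c` satisfying `c i * c i' = 1` -/
theorem dg_shape (d : GL (Fin 4 ⊕ Fin 4) K) (hd : d ∈ DgD4 K) :
    ∃ (π : Fin 4 ⊕ Fin 4 → Fin 4 ⊕ Fin 4) (c : Fin 4 ⊕ Fin 4 → K), (π = id ∨ π = piS) ∧
      (∀ i, c i * c (Sum.swap i) = 1) ∧
      ∀ i j, (d : Matrix (Fin 4 ⊕ Fin 4) (Fin 4 ⊕ Fin 4) K) i j = if i = π j then c j else 0 := by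
  obtain ⟨h1, hα, hβ, hαβ⟩ := dg_rel d hd
  have hz := hd.2
  have h10 := h1 0 (by decide)
  have h11 := h1 1 (by decide)
  have h12 := h1 2 (by decide)
  by_cases hγ : (d : Matrix (Fin 4 ⊕ Fin 4) (Fin 4 ⊕ Fin 4) K) (Sum.inr 3) (Sum.inl 3) = 0
  · -- diagonal type
    rw [hγ, mul_zero, add_zero] at hαβ
    have hδ : (d : Matrix (Fin 4 ⊕ Fin 4) (Fin 4 ⊕ Fin 4) K) (Sum.inr 3) (Sum.inr 3) ≠ 0 :=
      right_ne_zero_of_mul_eq_one hαβ
    have hβ0 : (d : Matrix (Fin 4 ⊕ Fin 4) (Fin 4 ⊕ Fin 4) K) (Sum.inl 3) (Sum.inr 3) = 0 := by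
      rcases mul_eq_zero.mp hβ with h | h
      · exact h
      · exact absurd h hδ
    refine ⟨id, fun j => (d : Matrix (Fin 4 ⊕ Fin 4) (Fin 4 ⊕ Fin 4) K) j j, Or.inl rfl, ?_, ?_⟩
    · intro i
      rcases i with i | i <;> fin_cases i <;> simp only [Sum.swap_inl, Sum.swap_inr] <;>
        first
          | exact h10 | exact h11 | exact h12 | exact hαβ
          | (rw [mul_comm]; first | exact h10 | exact h11 | exact h12 | exact hαβ)
    · intro i j
      by_cases hij : i = j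
      · subst hij
        simp
      · rw [if_neg (by simpa using hij)]
        by_cases hb : (i = Sum.inl 3 ∨ i = Sum.inr 3) ∧ (j = Sum.inl 3 ∨ j = Sum.inr 3)
        · rcases hb with ⟨rfl | rfl, rfl | rfl⟩
          · exact absurd rfl hij
          · exact hβ0
          · exact hγ
          · exact absurd rfl hij
        · exact hz i j hij hb
  · -- swap type
    have hα0 : (d : Matrix (Fin 4 ⊕ Fin 4) (Fin 4 ⊕ Fin 4) K) (Sum.inl 3) (Sum.inl 3) = 0 := by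
      rcases mul_eq_zero.mp hα with h | h
      · exact h
      · exact absurd h hγ
    rw [hα0, zero_mul, zero_add] at hαβ
    have hβ1 : (d : Matrix (Fin 4 ⊕ Fin 4) (Fin 4 ⊕ Fin 4) K) (Sum.inl 3) (Sum.inr 3) ≠ 0 :=
      left_ne_zero_of_mul_eq_one hαβ
    have hδ0 : (d : Matrix (Fin 4 ⊕ Fin 4) (Fin 4 ⊕ Fin 4) K) (Sum.inr 3) (Sum.inr 3) = 0 := by
      rcases mul_eq_zero.mp hβ with h | h
      · exact absurd h hβ1
      · exact h
    refine ⟨piS, fun j => (d : Matrix (Fin 4 ⊕ Fin 4) (Fin 4 ⊕ Fin 4) K) (piS j) j,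
      Or.inr rfl, ?_, ?_⟩
    · intro i
      rcases i with i | i <;> fin_cases i <;> simp [piS] <;>
        first
          | exact h10 | exact h11 | exact h12 | exact hαβ
          | (rw [mul_comm]; first | exact h10 | exact h11 | exact h12 | exact hαβ)
    · intro i j
      by_cases hij : i = piS j
      · subst hij
        simp
      · rw [if_neg hij]
        by_cases hb : (i = Sum.inl 3 ∨ i = Sum.inr 3) ∧ (j = Sum.inl 3 ∨ j = Sum.inr 3)
        · rcases hb with ⟨rfl | rfl, rfl | rfl⟩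
          · exact hα0
          · exact absurd (by decide) hij
          · exact absurd (by decide) hij
          · exact hδ0
        · refine hz i j ?_ hb
          rintro rfl
          apply hij
          have hi : ¬ (i = Sum.inl 3 ∨ i = Sum.inr 3) := fun h => hb ⟨h, h⟩
          rcases i with i | i
          · have : i ≠ 3 := fun h => hi (Or.inl (by rw [h]))
            simp [piS, this]
          · have : i ≠ 3 := fun h => hi (Or.inr (by rw [h]))
            simp [piS, this]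

end generic

end Cfsg.Agent.Lib.Helper35.CHO
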