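-- Team project CHO (S1082): package [NORM-D4] (helper35, independent second seat).
import Mathlib
import Cfsg.Agent.Lib.Helper35.CHO.DgShape

set_option autoImplicit false
open scoped MatrixGroups
open Matrix

namespace Cfsg.Agent.Lib.Helper35.CHO
open Cfsg.Agent.Lib.Helper99.CHO

universe u

/-- **[NORM-D4]** block-monomial isometries normalize `R`. -/
theorem pkgNormD4_of (hU : PkgUnitD4.{u}) : PkgNormD4.{u} := by
  intro K _ d hd r t
  have hr : r.val < 24 := r.isLt
  obtain ⟨π, c, hπ, hc, hD⟩ := dg_shape d hd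
  obtain ⟨χ, hχ⟩ := diag_rel c hc r.val hr
  rcases hπ with rfl | rfl
  · have hmat := mono_conj id (fun _ => rfl) (d : Matrix (Fin 4 ⊕ Fin 4) (Fin 4 ⊕ Fin 4) K)
      (ND4 K r.val) (ND4 K r.val) c χ t hD (fun _ _ => rfl) hχ
    have h : d * ED4 K r t * d⁻¹ = ED4 K r (χ * t) := by
      rw [mul_inv_eq_iff_eq_mul]
      apply Units.ext
      rw [Units.val_mul, Units.val_mul, coe_ED4 hU, coe_ED4 hU]
      exact hmat
    rw [h]
    exact Subgroup.subset_closure ⟨(r, χ * t), rfl⟩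
  · have hlt : sigListD4.getD r.val 0 < Cfsg.Lie.chevD4.nroots := sig_lt ⟨r.val, hr⟩
    have hN' : ∀ i j, ND4 K (sigListD4.getD r.val 0) i j = ND4 K r.val (piS i) (piS j) := by
      intro i j
      simp only [ND4, Matrix.of_apply]
      rw [tabB ⟨r.val, hr⟩ i j]
    have hmat := mono_conj piS piS_piS (d : Matrix (Fin 4 ⊕ Fin 4) (Fin 4 ⊕ Fin 4) K)
      (ND4 K r.val) (ND4 K (sigListD4.getD r.val 0)) c χ t hD hN' hχ
    have h : d * ED4 K r t * d⁻¹ = ED4 K ⟨sigListD4.getD r.val 0, hlt⟩ (χ * t) := by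
      rw [mul_inv_eq_iff_eq_mul]
      apply Units.ext
      rw [Units.val_mul, Units.val_mul, coe_ED4 hU, coe_ED4 hU]
      exact hmat
    rw [h]
    exact Subgroup.subset_closure ⟨(⟨sigListD4.getD r.val 0, hlt⟩, χ * t), rfl⟩

end Cfsg.Agent.Lib.Helper35.CHO
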